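import Groth.Prelude.Def_EssDim
import Mathlib

set_option autoImplicit false
universe w u

open CategoryTheory Opposite AlgebraicGeometry

namespace Groth.Agent.EssDimBCLib

theorem trdeg_compositum {k K L : Type u} [Field k] [Field K] [Field L] [Algebra k K] [Algebra k L] [Algebra K L]
    [IsScalarTower k K L] (K₀ : IntermediateField k L) :
    Algebra.trdeg K (IntermediateField.adjoin K (K₀ : Set L)) ≤ Algebra.trdeg k K₀ := by
  set K₁ := IntermediateField.adjoin K (K₀ : Set L)
  obtain ⟨s, hs⟩ := exists_isTranscendenceBasis k K₀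
  haveI := hs.isAlgebraic
  let incl : K₀ →ₐ[k] K₁ :=
    { toFun := fun x => ⟨x.1, IntermediateField.subset_adjoin K _ x.2⟩
      map_one' := rfl
      map_mul' := fun _ _ => rfl
      map_zero' := rfl
      map_add' := fun _ _ => rfl
      commutes' := fun c => Subtype.ext (rfl : algebraMap k L c = algebraMap k L c) }
  let v : s → K₁ := fun x => incl x.1
  set P := Algebra.adjoin K (Set.range v)
  have hP : ∀ x : K₀, IsAlgebraic P (incl x) := by
    intro x
    have hx : IsAlgebraic (Algebra.adjoin k (Set.range ((↑) : s → K₀))) x := Algebra.IsAlgebraic.isAlgebraic x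
    have hle : ∀ y : Algebra.adjoin k (Set.range ((↑) : s → K₀)), incl y.1 ∈ P := by
      intro y
      have : Algebra.adjoin k (Set.range ((↑) : s → K₀)) ≤ (P.restrictScalars k).comap incl :=
        Algebra.adjoin_le (by
          rintro _ ⟨z, rfl⟩
          exact Algebra.subset_adjoin ⟨z, rfl⟩)
      exact this y.2
    let f : Algebra.adjoin k (Set.range ((↑) : s → K₀)) →+* P :=
      (incl.toRingHom.comp (Algebra.adjoin k (Set.range ((↑) : s → K₀))).val.toRingHom).codRestrict P.toSubring hle
    refine hx.ringHom_of_comp_eq f incl.toRingHom ?_ (RingHom.ext fun _ => rfl)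
    intro a b h
    exact Subtype.ext (incl.toRingHom.injective (congrArg Subtype.val h))
  haveI : Algebra.IsAlgebraic P K₁ := by
    refine ⟨fun z => ?_⟩
    obtain ⟨z, hz⟩ := z
    refine IntermediateField.adjoin_induction K (p := fun x hx => IsAlgebraic P (⟨x, hx⟩ : K₁))
      (fun x hx => hP ⟨x, hx⟩) (fun c => ?_) (fun x y _ _ hx hy => ?_) (fun x _ hx => ?_) (fun x y _ _ hx hy => ?_) hz
    · exact isAlgebraic_algebraMap (⟨algebraMap K K₁ c, P.algebraMap_mem c⟩ : P)
    · exact hx.add hy
    · exact hx.inv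
    · exact hx.mul hy
  calc Algebra.trdeg K K₁ ≤ Cardinal.mk (Set.range v) := by
        exact Algebra.IsAlgebraic.trdeg_le_cardinalMk K (Set.range v)
    _ ≤ Cardinal.mk s := Cardinal.mk_range_le
    _ = Algebra.trdeg k K₀ := hs.cardinalMk_eq_trdeg

theorem ed_baseChange (k : Type u) [Field k] (K : Type u) [Field K] [Algebra k K]
    (P : (Over (Spec (CommRingCat.of k)))ᵒᵖ ⥤ Type w) :
    EssDim.ed (k := K) ((Over.map (Spec.map (CommRingCat.ofHom (algebraMap k K)))).op ⋙ P) ≤ EssDim.ed P := by
  refine iSup_le fun L => iSup_le fun _ => iSup_le fun _ => iSup_le fun ξ => ?_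
  letI : Algebra k L := Algebra.compHom L (algebraMap k K)
  haveI : IsScalarTower k K L := IsScalarTower.of_algebraMap_eq (fun _ => rfl)
  let G := Over.map (Spec.map (CommRingCat.ofHom (algebraMap k K)))
  let j : ∀ (E : Type u) [Field E] [Algebra k E] [Algebra K E] [IsScalarTower k K E],
      G.obj (SGA7.pt (K := K) E) ≅ SGA7.pt (K := k) E := fun E _ _ _ _ =>
    Over.isoMk (Iso.refl _) (by
      change 𝟙 _ ≫ Spec.map _ = Spec.map _ ≫ Spec.map _
      rw [Category.id_comp, ← Spec.map_comp, ← CommRingCat.ofHom_comp, ← IsScalarTower.algebraMap_eq])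
  let ξ' : EssDim.FPt P L := P.map (j L).inv.op ξ
  refine le_trans ?_ (EssDim.edAt_le_ed (P := P) ξ')
  rw [WithBot.coe_le_coe]
  refine le_iInf fun K₀ => ?_
  obtain ⟨K₀, hK₀⟩ := K₀
  let K₁ : IntermediateField K L := IntermediateField.adjoin K (K₀ : Set L)
  have hmono : EssDim.Descends P ξ' (K₁.restrictScalars k) :=
    hK₀.mono (fun x hx => IntermediateField.subset_adjoin K _ hx)
  have hdesc : EssDim.Descends (G.op ⋙ P) ξ K₁ := by
    obtain ⟨η, hη⟩ := hmono
    refine ⟨P.map (j K₁).hom.op η, ?_⟩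
    change (P.map (j K₁).hom.op ≫ P.map (G.map (EssDim.resPt K₁.val)).op) η = ξ
    have hξ : P.map (j L).hom.op ξ' = ξ := by
      change (P.map (j L).inv.op ≫ P.map (j L).hom.op) ξ = ξ
      rw [← P.map_comp, ← op_comp, Iso.hom_inv_id, op_id, P.map_id]; rfl
    rw [← hξ, ← hη]
    change _ = (P.map (EssDim.resPt (K₁.restrictScalars k).val).op ≫ P.map (j L).hom.op) η
    rw [← P.map_comp, ← P.map_comp, ← op_comp, ← op_comp]
    congr 2
  exact (EssDim.edAt_le_of_descends hdesc).trans (OrderHomClass.mono Cardinal.toENat (trdeg_compositum K₀))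

end Groth.Agent.EssDimBCLib
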